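import Mathlib

/-!
Geometric sums `1 + R + ... + R^(i-1)` with `R ≡ 1 (mod p)`, `p` an odd prime.
-/

namespace Cfsg.Agent.Lib.Metacyclic

open Finset

/-- `1 + R + ... + R^(i-1)`. -/
def gsum (R : ℕ) (i : ℕ) : ℕ := ∑ t ∈ range i, R ^ t

theorem gsum_zero (R : ℕ) : gsum R 0 = 0 := rfl

theorem gsum_one (R : ℕ) : gsum R 1 = 1 := by simp [gsum]

theorem gsum_succ (R i : ℕ) : gsum R (i + 1) = gsum R i + R ^ i := sum_range_succ _ _

theorem gsum_add (R i k : ℕ) : gsum R (i + k) = gsum R i + R ^ i * gsum R k := by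
  induction k with
  | zero => simp [gsum_zero]
  | succ k ih => rw [← add_assoc, gsum_succ, ih, gsum_succ, pow_add]; ring

theorem gsum_mul (R q : ℕ) : ∀ w, gsum R (q * w) = gsum R q * gsum (R ^ q) w
  | 0 => by simp [gsum_zero]
  | w + 1 => by rw [mul_add, mul_one, gsum_add, gsum_mul R q w, gsum_succ, ← pow_mul]; ring

theorem pow_eq_one_add_mul_gsum (d i : ℕ) : (1 + d) ^ i = 1 + d * gsum (1 + d) i := by
  induction i with
  | zero => simp [gsum_zero]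
  | succ i ih =>
    rw [gsum_succ]
    calc (1 + d) ^ (i + 1) = (1 + d) ^ i + d * (1 + d) ^ i := by ring
      _ = _ := by conv_lhs => arg 1; rw [ih]
      _ = _ := by ring

variable {p : ℕ} [hp : Fact p.Prime]

theorem gsum_cast_of_cast_eq_one {R : ℕ} (hR : (R : ZMod p) = 1) (i : ℕ) :
    (gsum R i : ZMod p) = i := by
  simp [gsum, hR]

theorem two_ne_zero' (hp2 : p ≠ 2) : (2 : ZMod p) ≠ 0 := by
  intro h
  have : p ∣ 2 := (ZMod.natCast_eq_zero_iff 2 p).1 (by exact_mod_cast h)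
  exact hp2 ((Nat.prime_dvd_prime_iff_eq hp.out Nat.prime_two).1 this)

theorem sub_gsum_prime_dvd (hp2 : p ≠ 2) {k R R' : ℕ} (hR : (R : ZMod p) = 1)
    (hR' : (R' : ZMod p) = 1) (h : ((p ^ k : ℕ) : ℤ) ∣ (R : ℤ) - R') :
    ((p ^ (k + 1) : ℕ) : ℤ) ∣ (gsum R p : ℤ) - gsum R' p := by
  set U : ℤ := ∑ t ∈ range p, ∑ s ∈ range t, (R : ℤ) ^ s * (R' : ℤ) ^ (t - 1 - s) with hU
  have h1 : (gsum R p : ℤ) - gsum R' p = U * ((R : ℤ) - R') := by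
    rw [hU, sum_mul]
    simp only [gsum, Nat.cast_sum, Nat.cast_pow, ← sum_sub_distrib, geom_sum₂_mul]
  have h2 : (p : ℤ) ∣ U := by
    rw [← ZMod.intCast_zmod_eq_zero_iff_dvd, hU]
    push_cast
    simp only [hR, hR', one_pow, mul_one, sum_const, card_range, nsmul_one]
    have h3 : (∑ t ∈ range p, (t : ZMod p)) * 2 = 0 := by
      have := congrArg (fun z : ℕ => (z : ZMod p)) (sum_range_id_mul_two p)
      push_cast at this
      rw [this, ZMod.natCast_self, zero_mul]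
    exact (mul_eq_zero.1 h3).resolve_right (two_ne_zero' hp2)
  rw [h1, pow_succ', Nat.cast_mul]
  exact mul_dvd_mul h2 h

theorem prime_dvd_gsum {R : ℕ} (hR : (R : ZMod p) = 1) : p ∣ gsum R p := by
  rw [← ZMod.natCast_eq_zero_iff, gsum_cast_of_cast_eq_one hR, ZMod.natCast_self]

theorem cast_pow_eq_one {R : ℕ} (hR : (R : ZMod p) = 1) (q : ℕ) :
    ((R ^ q : ℕ) : ZMod p) = 1 := by push_cast; rw [hR, one_pow]

theorem pow_dvd_gsum_pow {R : ℕ} (hR : (R : ZMod p) = 1) : ∀ σ, p ^ σ ∣ gsum R (p ^ σ)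
  | 0 => by simp
  | σ + 1 => by
    rw [pow_succ, gsum_mul]
    exact mul_dvd_mul (pow_dvd_gsum_pow hR σ) (prime_dvd_gsum (cast_pow_eq_one hR _))

theorem sub_gsum_pow_dvd (hp2 : p ≠ 2) {k R R' : ℕ} (hR : (R : ZMod p) = 1)
    (hR' : (R' : ZMod p) = 1) (h : ((p ^ k : ℕ) : ℤ) ∣ (R : ℤ) - R') :
    ∀ σ, ((p ^ (σ + k) : ℕ) : ℤ) ∣ (gsum R (p ^ σ) : ℤ) - gsum R' (p ^ σ)
  | 0 => by simp [gsum_one]
  | σ + 1 => by
    have ih := sub_gsum_pow_dvd hp2 hR hR' h σ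
    have hQ : ((p ^ k : ℕ) : ℤ) ∣ ((R ^ p ^ σ : ℕ) : ℤ) - ((R' ^ p ^ σ : ℕ) : ℤ) := by
      push_cast
      push_cast at h
      exact h.trans (sub_dvd_pow_sub_pow _ _ _)
    have hB := sub_gsum_prime_dvd hp2 (cast_pow_eq_one hR (p ^ σ)) (cast_pow_eq_one hR' (p ^ σ)) hQ
    rw [pow_succ p σ, gsum_mul, gsum_mul]
    push_cast at ih hB ⊢
    have e : ∀ A A' B B' : ℤ, A * B - A' * B' = (A - A') * B + A' * (B - B') := by intros; ring
    rw [e]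
    refine dvd_add ?_ ?_
    · rw [show σ + 1 + k = (σ + k) + 1 by omega, pow_succ]
      exact mul_dvd_mul ih (by exact_mod_cast prime_dvd_gsum (cast_pow_eq_one hR _))
    · rw [show σ + 1 + k = σ + (k + 1) by omega, pow_add]
      exact mul_dvd_mul (by exact_mod_cast pow_dvd_gsum_pow hR' σ) hB

/-- For `R ≡ 1 (mod p)`, `1 + ... + R^(p^σ - 1)` is `p^σ` times something prime to `p`. -/
theorem exists_gsum_pow_eq (hp2 : p ≠ 2) {R : ℕ} (hR : (R : ZMod p) = 1) (σ : ℕ) :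
    ∃ A, gsum R (p ^ σ) = p ^ σ * A ∧ ¬ p ∣ A := by
  obtain ⟨A, hA⟩ := pow_dvd_gsum_pow hR σ
  refine ⟨A, hA, fun hd => ?_⟩
  have h1 : ((p ^ 1 : ℕ) : ℤ) ∣ (R : ℤ) - (1 : ℕ) := by
    rw [pow_one, ← ZMod.intCast_zmod_eq_zero_iff_dvd]; simp [hR]
  have h2 := sub_gsum_pow_dvd hp2 hR (by simp) h1 σ
  have h3 : gsum 1 (p ^ σ) = p ^ σ := by simp [gsum]
  rw [h3, hA] at h2
  have h4 : ((p ^ (σ + 1) : ℕ) : ℤ) ∣ ((p ^ σ * A : ℕ) : ℤ) := by
    exact_mod_cast (show p ^ (σ + 1) ∣ p ^ σ * A from pow_succ p σ ▸ mul_dvd_mul_left _ hd)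
  have h5 := dvd_sub h4 h2
  rw [sub_sub_cancel] at h5
  have h6 : p ^ (σ + 1) ∣ p ^ σ := by exact_mod_cast h5
  have := (Nat.pow_dvd_pow_iff_le_right hp.out.one_lt).1 h6
  omega

theorem pow_dvd_gsum_iff (hp2 : p ≠ 2) {R : ℕ} (hR : (R : ZMod p) = 1) (σ i : ℕ) :
    p ^ σ ∣ gsum R i ↔ p ^ σ ∣ i := by
  rcases Nat.eq_zero_or_pos i with rfl | hi
  · simp [gsum_zero]
  obtain ⟨t, w, hw, rfl⟩ := Nat.exists_eq_pow_mul_and_not_dvd hi.ne' p hp.out.ne_one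
  obtain ⟨A, hA, hA'⟩ := exists_gsum_pow_eq hp2 hR t
  rw [gsum_mul, hA, mul_assoc]
  have hcop : ∀ z, ¬ p ∣ z → (p ^ σ ∣ p ^ t * z ↔ σ ≤ t) := by
    intro z hz
    constructor
    · intro h
      exact (Nat.pow_dvd_pow_iff_le_right hp.out.one_lt).1
        (((hp.out.coprime_iff_not_dvd.2 hz).pow_left σ).dvd_of_dvd_mul_right h)
    · intro h
      exact (pow_dvd_pow p h).trans (dvd_mul_right _ _)
  rw [hcop w hw, hcop]
  intro hd
  rcases hp.out.dvd_mul.1 hd with h | h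
  · exact hA' h
  · rw [← ZMod.natCast_eq_zero_iff, gsum_cast_of_cast_eq_one (cast_pow_eq_one hR _),
      ZMod.natCast_eq_zero_iff] at h
    exact hw h

theorem pow_sub_pow_dvd {Q w w' k : ℕ} (hQ : (Q : ZMod p) = 1)
    (h : w ≡ w' [MOD p ^ k]) : ((p ^ (k + 1) : ℕ) : ℤ) ∣ ((Q : ℤ) ^ w - (Q : ℤ) ^ w') := by
  have h1 : (p : ℤ) ∣ (Q : ℤ) - 1 := by
    rw [← ZMod.intCast_zmod_eq_zero_iff_dvd]; simp [hQ]
  have h2 := dvd_sub_pow_of_dvd_sub h1 k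
  rw [one_pow] at h2
  rcases le_total w w' with hle | hle
  · obtain ⟨c, hc⟩ := (Nat.modEq_iff_dvd' hle).1 h
    obtain rfl : w' = w + p ^ k * c := by omega
    rw [show (p ^ (k + 1) : ℕ) = p ^ k * p from pow_succ p k, pow_add _ _ (p ^ k * c), pow_mul, show (Q : ℤ) ^ w - (Q : ℤ) ^ w * ((Q : ℤ) ^ p ^ k) ^ c
      = -((Q : ℤ) ^ w * (((Q : ℤ) ^ p ^ k) ^ c - 1)) by ring]
    push_cast
    rw [← pow_succ]
    refine (dvd_mul_of_dvd_right ((h2.trans ?_)) _).neg_right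
    simpa using sub_dvd_pow_sub_pow ((Q : ℤ) ^ p ^ k) 1 c
  · obtain ⟨c, hc⟩ := (Nat.modEq_iff_dvd' hle).1 h.symm
    obtain rfl : w = w' + p ^ k * c := by omega
    rw [show (p ^ (k + 1) : ℕ) = p ^ k * p from pow_succ p k, pow_add _ _ (p ^ k * c), pow_mul, show (Q : ℤ) ^ w' * ((Q : ℤ) ^ p ^ k) ^ c - (Q : ℤ) ^ w'
      = (Q : ℤ) ^ w' * (((Q : ℤ) ^ p ^ k) ^ c - 1) by ring]
    push_cast
    rw [← pow_succ]
    refine dvd_mul_of_dvd_right (h2.trans ?_) _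
    simpa using sub_dvd_pow_sub_pow ((Q : ℤ) ^ p ^ k) 1 c

end Cfsg.Agent.Lib.Metacyclic
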