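import Mathlib
import Cfsg.Prelude.Def_OddOrderLocal
import Cfsg.Agent.Lib.Metacyclic.Arith

/-!
Coordinates for metacyclic `p`-groups, `p` odd: a map `phi : G → ZMod (p^n) × ZMod (p^n)`
(`p^n` the order of the derived subgroup) with `⁅g, h⁆ = E (det (phi h) (phi g))`.
-/

namespace Cfsg.Agent.Lib.Metacyclic

open Subgroup
open scoped commutatorElement

universe u

/-- Generators and parameters of a metacyclic `p`-group. -/
structure Coord (G : Type u) [Group G] (p : ℕ) where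
  a : G
  x : G
  d : ℕ
  m : ℕ
  l : ℕ
  n : ℕ
  conj_a : x * a * x⁻¹ = a ^ (1 + d)
  dvd_d : p ∣ d
  orderOf_a : orderOf a = p ^ m
  orderOf_ad : orderOf (a ^ d) = p ^ n
  exists_rep : ∀ g : G, ∃ j i : ℕ, g = a ^ j * x ^ i
  pow_l : ∃ s : ℕ, x ^ p ^ l = a ^ s
  dvd_of_mem : ∀ i : ℕ, x ^ i ∈ Subgroup.zpowers a → p ^ l ∣ i

theorem exists_coord {G : Type u} [Group G] [Finite G] {p : ℕ} [hp : Fact p.Prime]
    (hG : IsPGroup p G) (hmc : Cfsg.IsMetacyclic G) : Nonempty (Coord G p) := by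
  obtain ⟨N, hN, hNc, hQc⟩ := hmc
  obtain ⟨a, rfl⟩ := (Subgroup.isCyclic_iff_exists_zpowers_eq_top N).1 hNc
  obtain ⟨y, hy⟩ := isCyclic_iff_exists_zpowers_eq_top.1 hQc
  obtain ⟨x, rfl⟩ := QuotientGroup.mk'_surjective _ y
  obtain ⟨m, hm⟩ := (IsPGroup.iff_orderOf.1 hG a)
  obtain ⟨L, hL⟩ := (IsPGroup.iff_orderOf.1 hG x)
  obtain ⟨l, -, hl⟩ := (Nat.dvd_prime_pow hp.out).1
    (hL ▸ orderOf_map_dvd (QuotientGroup.mk' (zpowers a)) x)
  have hxa : x * a * x⁻¹ ∈ zpowers a := hN.conj_mem a (mem_zpowers a) x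
  obtain ⟨r, hr, hr1⟩ : ∃ r : ℕ, x * a * x⁻¹ = a ^ r ∧ (r : ZMod p) = 1 := by
    rcases Nat.eq_zero_or_pos m with rfl | hm0
    · rw [pow_zero, orderOf_eq_one_iff] at hm
      exact ⟨1, by simp [hm], by simp⟩
    obtain ⟨r, hr⟩ := mem_powers_iff_mem_zpowers.2 hxa
    refine ⟨r, hr.symm, ?_⟩
    have key : ∀ i : ℕ, x ^ i * a * (x ^ i)⁻¹ = a ^ (r ^ i) := by
      intro i
      induction i with
      | zero => simp
      | succ i ih =>
        calc x ^ (i + 1) * a * (x ^ (i + 1))⁻¹ = x * (x ^ i * a * (x ^ i)⁻¹) * x⁻¹ := by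
              rw [pow_succ']; group
          _ = _ := by rw [ih, ← conj_pow, ← hr, ← pow_mul, pow_succ']
    have h1 := key (p ^ L)
    rw [← hL, pow_orderOf_eq_one, one_mul, inv_one, mul_one, hL] at h1
    have h2 : 1 ≡ r ^ p ^ L [MOD p ^ m] := by
      rw [← hm, ← pow_eq_pow_iff_modEq, pow_one]; exact h1
    have h3 := (ZMod.natCast_eq_natCast_iff _ _ p).2 (h2.of_dvd (dvd_pow_self p hm0.ne'))
    push_cast at h3
    rwa [ZMod.pow_card_pow, eq_comm] at h3
  have hr0 : 1 ≤ r := Nat.one_le_iff_ne_zero.2 fun h => by simp [h] at hr1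
  obtain ⟨d, rfl⟩ := Nat.exists_eq_add_of_le hr0
  have hd : p ∣ d := by
    rw [← ZMod.natCast_eq_zero_iff]; simpa using hr1
  obtain ⟨n, -, hn⟩ := (Nat.dvd_prime_pow hp.out).1 (hm ▸ orderOf_pow_dvd (x := a) d)
  refine ⟨⟨a, x, d, m, l, n, hr, hd, hm, hn, ?_, ?_, ?_⟩⟩
  · intro g
    have hg : QuotientGroup.mk' (zpowers a) g ∈ zpowers (QuotientGroup.mk' (zpowers a) x) :=
      hy ▸ mem_top _
    obtain ⟨i, hi⟩ := mem_powers_iff_mem_zpowers.2 hg
    have h1 : g * (x ^ i)⁻¹ ∈ zpowers a := by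
      rw [← QuotientGroup.eq_one_iff, ← QuotientGroup.mk'_apply, map_mul, map_inv, map_pow]
      rw [← hi]; simp
    obtain ⟨j, hj⟩ := mem_powers_iff_mem_zpowers.2 h1
    exact ⟨j, i, by simp only at hj; rw [hj]; group⟩
  · have h1 : x ^ p ^ l ∈ zpowers a := by
      rw [← QuotientGroup.eq_one_iff, ← QuotientGroup.mk'_apply, map_pow, ← hl, pow_orderOf_eq_one]
    obtain ⟨s, hs⟩ := mem_powers_iff_mem_zpowers.2 h1
    exact ⟨s, hs.symm⟩
  · intro i hi
    rw [← hl]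
    refine orderOf_dvd_of_pow_eq_one ?_
    rw [← map_pow]
    exact (QuotientGroup.eq_one_iff _).2 hi

theorem index_eq_card_range {G : Type*} [Group G] (C : Subgroup G) {X : Type*} (f : G → X)
    (hf : ∀ h h', f h = f h' ↔ h⁻¹ * h' ∈ C) : C.index = Nat.card (Set.range f) := by
  let g : G ⧸ C → Set.range f := Quotient.lift (fun h => (⟨f h, h, rfl⟩ : Set.range f))
    (fun a b hab => Subtype.ext ((hf a b).2 (QuotientGroup.leftRel_apply.1 hab)))
  refine Nat.card_congr (Equiv.ofBijective g ⟨?_, ?_⟩)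
  · intro a b
    refine Quotient.inductionOn₂ a b fun a b hab => ?_
    exact Quotient.sound (QuotientGroup.leftRel_apply.2 ((hf a b).1 (congrArg Subtype.val hab)))
  · rintro ⟨_, h, rfl⟩
    exact ⟨Quotient.mk'' h, rfl⟩

namespace Coord

variable {G : Type u} [Group G] {p : ℕ} (C : Coord G p)

/-- The exponent giving the action of `x` on `a`. -/
def r : ℕ := 1 + C.d

theorem r_pow (i : ℕ) : C.r ^ i = 1 + C.d * gsum C.r i := pow_eq_one_add_mul_gsum C.d i

theorem r_cast : (C.r : ZMod p) = 1 := by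
  simp [r, (ZMod.natCast_eq_zero_iff C.d p).2 C.dvd_d]

theorem conj_pow_a (i j : ℕ) : C.x ^ i * C.a ^ j = C.a ^ (j * C.r ^ i) * C.x ^ i := by
  induction i with
  | zero => simp
  | succ i ih =>
    have h : ∀ k : ℕ, C.x * C.a ^ k = C.a ^ (k * C.r) * C.x := fun k => by
      rw [mul_comm k, pow_mul, r, ← C.conj_a, conj_pow]; group
    calc C.x ^ (i + 1) * C.a ^ j = C.x * (C.x ^ i * C.a ^ j) := by rw [pow_succ', mul_assoc]
      _ = (C.x * C.a ^ (j * C.r ^ i)) * C.x ^ i := by rw [ih, mul_assoc]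
      _ = _ := by rw [h, mul_assoc, ← pow_succ', mul_assoc j, ← pow_succ]

theorem rep_mul (j i q k : ℕ) : (C.a ^ j * C.x ^ i) * (C.a ^ q * C.x ^ k) =
    C.a ^ (j + q * C.r ^ i) * C.x ^ (i + k) := by
  calc (C.a ^ j * C.x ^ i) * (C.a ^ q * C.x ^ k)
      = C.a ^ j * (C.x ^ i * C.a ^ q) * C.x ^ k := by group
    _ = _ := by rw [C.conj_pow_a, pow_add, pow_add]; group

theorem rep_pow (j i : ℕ) :
    ∀ w, (C.a ^ j * C.x ^ i) ^ w = C.a ^ (j * gsum (C.r ^ i) w) * C.x ^ (i * w)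
  | 0 => by simp [gsum_zero]
  | w + 1 => by
    rw [pow_succ, rep_pow j i w, rep_mul, gsum_succ, ← pow_mul]
    congr 2
    ring

theorem mem_zpowers_iff_exists (g : G) [Finite G] : g ∈ zpowers C.a ↔ ∃ k : ℕ, g = C.a ^ k := by
  rw [← mem_powers_iff_mem_zpowers]
  exact ⟨fun ⟨k, hk⟩ => ⟨k, hk.symm⟩, fun ⟨k, hk⟩ => ⟨k, hk.symm⟩⟩

variable [Finite G] [hp : Fact p.Prime]

instance neZero_pow_n : NeZero (p ^ C.n) := ⟨pow_ne_zero _ hp.out.ne_zero⟩

theorem n_le_m : C.n ≤ C.m := by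
  have h := orderOf_pow_dvd (x := C.a) C.d
  rw [C.orderOf_a, C.orderOf_ad] at h
  exact (Nat.pow_dvd_pow_iff_le_right hp.out.one_lt).1 h

/-- The isomorphism from `ZMod (p^n)` onto the derived subgroup. -/
def E (z : ZMod (p ^ C.n)) : G := (C.a ^ C.d) ^ z.val

theorem E_natCast (k : ℕ) : C.E (k : ZMod (p ^ C.n)) = (C.a ^ C.d) ^ k := by
  rw [E, ZMod.val_natCast]
  conv_rhs => rw [← pow_mod_orderOf, C.orderOf_ad]

theorem E_add (u v : ZMod (p ^ C.n)) : C.E (u + v) = C.E u * C.E v := by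
  conv_lhs => rw [← ZMod.natCast_zmod_val u, ← ZMod.natCast_zmod_val v, ← Nat.cast_add]
  rw [E_natCast, pow_add]; rfl

theorem E_zero : C.E 0 = 1 := by simp [E]

theorem E_injective : Function.Injective C.E := by
  intro u v h
  apply ZMod.val_injective
  refine pow_injOn_Iio_orderOf ?_ ?_ h <;> rw [Set.mem_Iio, C.orderOf_ad] <;> exact ZMod.val_lt _

theorem E_neg (u : ZMod (p ^ C.n)) : C.E (-u) = (C.E u)⁻¹ := by
  rw [eq_inv_iff_mul_eq_one, ← E_add, neg_add_cancel, E_zero]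

theorem E_eq_one_iff {u : ZMod (p ^ C.n)} : C.E u = 1 ↔ u = 0 :=
  ⟨fun h => C.E_injective (h.trans C.E_zero.symm), fun h => h ▸ C.E_zero⟩

/-- A chosen exponent of `a`. -/
noncomputable def repJ (g : G) : ℕ := (C.exists_rep g).choose

/-- A chosen exponent of `x`. -/
noncomputable def repI (g : G) : ℕ := (C.exists_rep g).choose_spec.choose

theorem rep_eq (g : G) : g = C.a ^ C.repJ g * C.x ^ C.repI g :=
  (C.exists_rep g).choose_spec.choose_spec

/-- The coordinate map. -/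
noncomputable def phi (g : G) : ZMod (p ^ C.n) × ZMod (p ^ C.n) :=
  ((C.repJ g : ZMod (p ^ C.n)), (gsum C.r (C.repI g) : ZMod (p ^ C.n)))

theorem E_fst_snd (j i : ℕ) :
    C.E (gsum C.r i : ZMod (p ^ C.n)) * C.a = (C.a ^ j * C.x ^ i) * C.a * (C.a ^ j * C.x ^ i)⁻¹ ∧
    C.E (j : ZMod (p ^ C.n)) * ((C.a ^ j * C.x ^ i) * C.x * (C.a ^ j * C.x ^ i)⁻¹) = C.x := by
  constructor
  · have h := C.conj_pow_a i 1
    rw [one_mul, pow_one] at h
    rw [E_natCast, show (C.a ^ j * C.x ^ i) * C.a * (C.a ^ j * C.x ^ i)⁻¹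
      = C.a ^ j * (C.x ^ i * C.a) * (C.x ^ i)⁻¹ * (C.a ^ j)⁻¹ by group, h, C.r_pow, ← pow_mul,
      add_comm 1, pow_succ]
    group
  · rw [E_natCast, ← pow_mul]
    have h := C.conj_pow_a 1 j
    rw [pow_one, pow_one] at h
    have h' : (C.a ^ (j * C.r))⁻¹ * C.x * C.a ^ j = C.x := by rw [mul_assoc, h]; group
    calc C.a ^ (C.d * j) * ((C.a ^ j * C.x ^ i) * C.x * (C.a ^ j * C.x ^ i)⁻¹)
        = (C.a ^ (C.d * j) * C.a ^ j) * C.x * (C.a ^ j)⁻¹ := by group
      _ = C.a ^ (j * C.r) * C.x * (C.a ^ j)⁻¹ := by rw [← pow_add, r]; congr 3; ring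
      _ = C.x := by
          rw [mul_inv_eq_iff_eq_mul]
          exact h.symm

theorem phi_rep (j i : ℕ) :
    C.phi (C.a ^ j * C.x ^ i) = ((j : ZMod (p ^ C.n)), (gsum C.r i : ZMod (p ^ C.n))) := by
  set g := C.a ^ j * C.x ^ i with hg
  obtain ⟨h1, h2⟩ := C.E_fst_snd (C.repJ g) (C.repI g)
  obtain ⟨h3, h4⟩ := C.E_fst_snd j i
  rw [← C.rep_eq g] at h1 h2
  rw [← hg] at h3 h4
  refine Prod.ext ?_ ?_
  · exact C.E_injective (mul_right_cancel (h2.trans h4.symm))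
  · exact C.E_injective (mul_right_cancel (h1.trans h3.symm))

/-- The scalar by which the coordinates of a product are twisted. -/
noncomputable def cc (g : G) : ZMod (p ^ C.n) := 1 + (C.d : ZMod (p ^ C.n)) * (C.phi g).2

theorem cc_rep (j i : ℕ) : C.cc (C.a ^ j * C.x ^ i) = (C.r : ZMod (p ^ C.n)) ^ i := by
  rw [cc, phi_rep, ← Nat.cast_pow, C.r_pow]; push_cast; rfl

theorem isUnit_cc (g : G) : IsUnit (C.cc g) := by
  rw [C.rep_eq g, cc_rep, ← Nat.cast_pow, ZMod.isUnit_iff_coprime]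
  refine Nat.Coprime.pow_left _ (Nat.Coprime.pow_right _ ?_)
  rw [Nat.coprime_comm, hp.out.coprime_iff_not_dvd, ← ZMod.natCast_eq_zero_iff, C.r_cast]
  exact one_ne_zero

theorem phi_mul (g h : G) :
    C.phi (g * h) = ((C.phi g).1 + C.cc g * (C.phi h).1, (C.phi g).2 + C.cc g * (C.phi h).2) := by
  obtain ⟨j, i, rfl⟩ := C.exists_rep g
  obtain ⟨q, k, rfl⟩ := C.exists_rep h
  rw [rep_mul, phi_rep, phi_rep, phi_rep, cc_rep, gsum_add]
  push_cast
  rw [mul_comm (q : ZMod (p ^ C.n))]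

theorem phi_one : C.phi 1 = 0 := by
  have h := C.phi_rep 0 0
  rw [pow_zero, pow_zero, one_mul, gsum_zero, Nat.cast_zero] at h
  exact h

/-- The alternating form. -/
def det (u v : ZMod (p ^ C.n) × ZMod (p ^ C.n)) : ZMod (p ^ C.n) := u.1 * v.2 - v.1 * u.2

theorem det_self (u : ZMod (p ^ C.n) × ZMod (p ^ C.n)) : C.det u u = 0 := sub_self _

theorem det_swap (u v : ZMod (p ^ C.n) × ZMod (p ^ C.n)) : C.det u v = - C.det v u :=
  (neg_sub _ _).symm

theorem mul_eq_E_mul (g h : G) : g * h = C.E (C.det (C.phi h) (C.phi g)) * (h * g) := by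
  obtain ⟨j, i, rfl⟩ := C.exists_rep g
  obtain ⟨q, k, rfl⟩ := C.exists_rep h
  rw [rep_mul, rep_mul, phi_rep, phi_rep, add_comm k i, ← mul_assoc]
  congr 1
  simp only [det]
  have h1 : C.a ^ (j + q * C.r ^ i) = C.E ((q : ZMod (p ^ C.n)) * gsum C.r i) * C.a ^ (j + q) := by
    rw [← Nat.cast_mul, E_natCast, C.r_pow, ← pow_mul, ← pow_add]; congr 1; ring
  have h2 : C.a ^ (q + j * C.r ^ k) = C.E ((j : ZMod (p ^ C.n)) * gsum C.r k) * C.a ^ (j + q) := by
    rw [← Nat.cast_mul, E_natCast, C.r_pow, ← pow_mul, ← pow_add]; congr 1; ring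
  rw [h1, h2, ← mul_assoc, ← E_add, sub_add_cancel]

theorem commutatorElement_eq (g h : G) : ⁅g, h⁆ = C.E (C.det (C.phi h) (C.phi g)) := by
  rw [commutatorElement_def, mul_assoc _ g⁻¹, ← mul_inv_rev, mul_inv_eq_iff_eq_mul]
  exact C.mul_eq_E_mul g h

theorem commute_iff (g h : G) : g * h = h * g ↔ C.det (C.phi g) (C.phi h) = 0 := by
  rw [C.mul_eq_E_mul g h, mul_eq_right, E_eq_one_iff, C.det_swap (C.phi g), neg_eq_zero]

theorem pow_dvd_gsum (hp2 : p ≠ 2) (t i : ℕ) : p ^ t ∣ gsum C.r i ↔ p ^ t ∣ i :=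
  pow_dvd_gsum_iff hp2 C.r_cast t i

omit [Finite G] in
theorem cast_dvd_iff {s k : ℕ} (hs : s ≤ C.n) :
    ((p ^ s : ℕ) : ZMod (p ^ C.n)) ∣ (k : ZMod (p ^ C.n)) ↔ p ^ s ∣ k := by
  constructor
  · rintro ⟨z, hz⟩
    rw [← ZMod.natCast_zmod_val z, ← Nat.cast_mul, ZMod.natCast_eq_natCast_iff] at hz
    exact (hz.of_dvd (pow_dvd_pow p hs)).dvd_iff dvd_rfl |>.2 (dvd_mul_right _ _)
  · exact fun h => map_dvd (Nat.castRingHom _) h

theorem n_le_l (hp2 : p ≠ 2) : C.n ≤ C.l := by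
  obtain ⟨s, hs⟩ := C.pow_l
  have h := C.conj_pow_a (p ^ C.l) 1
  rw [pow_one, one_mul, hs, ((Commute.refl C.a).pow_left s).eq] at h
  have h' := mul_right_cancel h
  rw [C.r_pow, pow_add, pow_one, eq_comm, mul_eq_left, pow_mul, ← orderOf_dvd_iff_pow_eq_one,
    C.orderOf_ad, C.pow_dvd_gsum hp2] at h'
  exact (Nat.pow_dvd_pow_iff_le_right hp.out.one_lt).1 h'

theorem pow_n_dvd_s {s : ℕ} (hs : C.x ^ p ^ C.l = C.a ^ s) : p ^ C.n ∣ s := by
  have h := C.conj_pow_a 1 s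
  rw [pow_one, pow_one, ← hs, (Commute.refl C.x).pow_right (p ^ C.l) |>.eq] at h
  have h' := mul_right_cancel h
  rw [hs, r, mul_add, mul_one, pow_add, eq_comm, mul_eq_left, mul_comm s, pow_mul,
    ← orderOf_dvd_iff_pow_eq_one, C.orderOf_ad] at h'
  exact h'

theorem gsum_surjective (hp2 : p ≠ 2) (z : ZMod (p ^ C.n)) :
    ∃ i : ℕ, (gsum C.r i : ZMod (p ^ C.n)) = z := by
  have hinj : Function.Injective (fun i : Fin (p ^ C.n) => (gsum C.r i : ZMod (p ^ C.n))) := by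
    have key : ∀ i k : ℕ, i ≤ k → k < p ^ C.n →
        (gsum C.r i : ZMod (p ^ C.n)) = gsum C.r k → i = k := by
      intro i k hik hk h
      obtain ⟨e, rfl⟩ := Nat.exists_eq_add_of_le hik
      rw [gsum_add, Nat.cast_add, Nat.cast_mul, Nat.cast_pow, left_eq_add,
        ← C.cc_rep 0 i, (C.isUnit_cc _).mul_right_eq_zero, ZMod.natCast_eq_zero_iff,
        C.pow_dvd_gsum hp2] at h
      have := Nat.eq_zero_of_dvd_of_lt h (by omega)
      omega
    intro i k h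
    rcases le_total (i : ℕ) k with hik | hik
    · exact Fin.ext (key i k hik k.2 h)
    · exact Fin.ext (key k i hik i.2 h.symm).symm
  have hbij := (Fintype.bijective_iff_injective_and_card _).2 ⟨hinj, by simp⟩
  obtain ⟨i, hi⟩ := hbij.2 z
  exact ⟨i, hi⟩

theorem phi_surjective (hp2 : p ≠ 2) : Function.Surjective C.phi := by
  rintro ⟨u, v⟩
  obtain ⟨i, hi⟩ := C.gsum_surjective hp2 v
  exact ⟨C.a ^ u.val * C.x ^ i, by rw [phi_rep, ZMod.natCast_zmod_val, hi]⟩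

theorem mem_center_iff' (hp2 : p ≠ 2) (g : G) : g ∈ center G ↔ C.phi g = 0 := by
  rw [Subgroup.mem_center_iff]
  constructor
  · intro h
    obtain ⟨h1, hh1⟩ := C.phi_surjective hp2 (1, 0)
    obtain ⟨h2, hh2⟩ := C.phi_surjective hp2 (0, 1)
    have e1 := (C.commute_iff h1 g).1 (h h1)
    have e2 := (C.commute_iff h2 g).1 (h h2)
    rw [hh1] at e1
    rw [hh2] at e2
    simp only [det] at e1 e2
    refine Prod.ext ?_ ?_
    · simpa using e2
    · simpa using e1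
  · intro h k
    rw [C.commute_iff k g, h]
    simp [det]

theorem phi_eq_iff (g h : G) : C.phi g = C.phi h ↔ C.phi (g⁻¹ * h) = 0 := by
  have e := C.phi_mul g (g⁻¹ * h)
  rw [mul_inv_cancel_left] at e
  constructor
  · intro hh
    rw [← hh] at e
    have e1 := congrArg Prod.fst e
    have e2 := congrArg Prod.snd e
    simp only at e1 e2
    rw [left_eq_add, (C.isUnit_cc g).mul_right_eq_zero] at e1 e2
    exact Prod.ext e1 e2
  · intro hh
    rw [e, hh]; simp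

theorem card_coord : Nat.card (ZMod (p ^ C.n) × ZMod (p ^ C.n)) = p ^ (2 * C.n) := by
  rw [Nat.card_prod, Nat.card_zmod]; ring

theorem index_center (hp2 : p ≠ 2) : (center G).index = p ^ (2 * C.n) := by
  rw [index_eq_card_range (center G) C.phi (fun g h => by
    rw [C.mem_center_iff' hp2, C.phi_eq_iff]), (C.phi_surjective hp2).range_eq,
    Nat.card_congr (Equiv.Set.univ _), card_coord]

theorem commutator_eq : commutator G = zpowers (C.a ^ C.d) := by
  refine le_antisymm ?_ ?_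
  · rw [_root_.commutator_def, commutator_le]
    intro g _ h _
    rw [C.commutatorElement_eq, E]
    exact npow_mem_zpowers _ _
  · rw [zpowers_le]
    have h := C.commutatorElement_eq C.x C.a
    have hx := C.phi_rep 0 1
    have ha := C.phi_rep 1 0
    rw [pow_zero, pow_one, one_mul] at hx
    rw [pow_zero, pow_one, mul_one] at ha
    rw [hx, ha, det] at h
    simp only [gsum_one, gsum_zero, Nat.cast_one, Nat.cast_zero, mul_one, zero_mul, sub_zero] at h
    rw [show (1 : ZMod (p ^ C.n)) = ((1 : ℕ) : ZMod (p ^ C.n)) from Nat.cast_one.symm,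
      E_natCast, pow_one] at h
    rw [← h, _root_.commutator_def]
    exact commutator_mem_commutator (mem_top _) (mem_top _)

theorem card_commutator : Nat.card (commutator G) = p ^ C.n := by
  rw [C.commutator_eq, Nat.card_zpowers, C.orderOf_ad]

theorem rep_inj {j i q k : ℕ} (h : C.a ^ j * C.x ^ i = C.a ^ q * C.x ^ k) :
    i ≡ k [MOD p ^ C.l] := by
  have key : ∀ j q i k : ℕ, i ≤ k → C.a ^ j * C.x ^ i = C.a ^ q * C.x ^ k → i ≡ k [MOD p ^ C.l] := by
    intro j q i k hik h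
    obtain ⟨e, rfl⟩ := Nat.exists_eq_add_of_le hik
    rw [add_comm i e, pow_add, ← mul_assoc] at h
    have h' := mul_right_cancel h
    have : C.x ^ e ∈ zpowers C.a := by
      rw [show C.x ^ e = (C.a ^ q)⁻¹ * C.a ^ j by rw [h']; group]
      exact mul_mem (inv_mem (npow_mem_zpowers _ _)) (npow_mem_zpowers _ _)
    have := C.dvd_of_mem e this
    exact (Nat.modEq_iff_dvd' hik).2 (by simpa using this)
  rcases le_total i k with hik | hik
  · exact key j q i k hik h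
  · exact (key q j k i hik h.symm).symm

end Coord

end Cfsg.Agent.Lib.Metacyclic
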