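import Mathlib
import Cfsg.Agent.Lib.Metacyclic.Basic

/-!
Conjugacy class sizes, agemo subgroups and the Frattini subgroup of a metacyclic `p`-group, `p` odd.
-/

namespace Cfsg.Agent.Lib.Metacyclic

namespace Coord

open Subgroup

universe u

variable {G : Type u} [Group G] {p : ℕ} (C : Coord G p) [Finite G] [hp : Fact p.Prime]

/-- The `ZMod (p^n)`-submodule of elements divisible by `p^s` in both coordinates. -/
def Div (s : ℕ) (u : ZMod (p ^ C.n) × ZMod (p ^ C.n)) : Prop :=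
  ((p ^ s : ℕ) : ZMod (p ^ C.n)) ∣ u.1 ∧ ((p ^ s : ℕ) : ZMod (p ^ C.n)) ∣ u.2

theorem div_zero' (u : ZMod (p ^ C.n) × ZMod (p ^ C.n)) : C.Div 0 u := by simp [Div]

theorem div_mono {s t : ℕ} (hst : s ≤ t) {u : ZMod (p ^ C.n) × ZMod (p ^ C.n)}
    (h : C.Div t u) : C.Div s u :=
  ⟨(map_dvd (Nat.castRingHom _) (pow_dvd_pow p hst)).trans h.1,
    (map_dvd (Nat.castRingHom _) (pow_dvd_pow p hst)).trans h.2⟩

theorem cast_pow_n : ((p ^ C.n : ℕ) : ZMod (p ^ C.n)) = 0 := ZMod.natCast_self _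

theorem div_n_iff (u : ZMod (p ^ C.n) × ZMod (p ^ C.n)) : C.Div C.n u ↔ u = 0 := by
  simp only [Div, C.cast_pow_n, zero_dvd_iff, Prod.ext_iff, Prod.fst_zero, Prod.snd_zero]

theorem isUnit_or_dvd (z : ZMod (p ^ C.n)) :
    IsUnit z ∨ ((p : ℕ) : ZMod (p ^ C.n)) ∣ z := by
  by_cases h : p ∣ z.val
  · right
    rw [← ZMod.natCast_zmod_val z]
    exact map_dvd (Nat.castRingHom _) h
  · left
    rw [← ZMod.natCast_zmod_val z, ZMod.isUnit_iff_coprime]
    exact ((hp.out.coprime_iff_not_dvd.2 h).symm).pow_right _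

theorem card_multiples {s : ℕ} (hs : s ≤ C.n) :
    Nat.card {z : ZMod (p ^ C.n) // ((p ^ s : ℕ) : ZMod (p ^ C.n)) ∣ z} = p ^ (C.n - s) := by
  have hpos : 0 < p ^ s := pow_pos hp.out.pos _
  have e : p ^ s * p ^ (C.n - s) = p ^ C.n := by rw [← pow_add]; congr 1; omega
  let f : Fin (p ^ (C.n - s)) → {z : ZMod (p ^ C.n) // ((p ^ s : ℕ) : ZMod (p ^ C.n)) ∣ z} :=
    fun k => ⟨((p ^ s * k : ℕ) : ZMod (p ^ C.n)), by rw [Nat.cast_mul]; exact dvd_mul_right _ _⟩
  have hf : Function.Bijective f := by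
    constructor
    · intro a b hab
      have h := congrArg Subtype.val hab
      simp only [f] at h
      rw [ZMod.natCast_eq_natCast_iff'] at h
      rw [Nat.mod_eq_of_lt (e ▸ Nat.mul_lt_mul_of_pos_left a.2 hpos),
        Nat.mod_eq_of_lt (e ▸ Nat.mul_lt_mul_of_pos_left b.2 hpos)] at h
      exact Fin.ext (Nat.eq_of_mul_eq_mul_left hpos h)
    · rintro ⟨z, hz⟩
      have hz' := hz
      rw [← ZMod.natCast_zmod_val z, C.cast_dvd_iff hs] at hz'
      obtain ⟨k, hk⟩ := hz'
      have hlt : k < p ^ (C.n - s) :=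
        Nat.lt_of_mul_lt_mul_left (a := p ^ s) (by rw [e, ← hk]; exact ZMod.val_lt z)
      exact ⟨⟨k, hlt⟩, Subtype.ext (by simp only [f]; rw [← hk, ZMod.natCast_zmod_val])⟩
  rw [← Nat.card_congr (Equiv.ofBijective f hf), Nat.card_fin]

theorem exists_level (u : ZMod (p ^ C.n) × ZMod (p ^ C.n)) :
    ∃ v ≤ C.n, (∀ s ≤ C.n, C.Div s u ↔ s ≤ v) ∧
      Set.range (C.det u) = {z | ((p ^ v : ℕ) : ZMod (p ^ C.n)) ∣ z} := by
  classical
  set v := Nat.findGreatest (fun s => C.Div s u) C.n with hv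
  have hvn : v ≤ C.n := Nat.findGreatest_le _
  have hdv : C.Div v u := Nat.findGreatest_spec (P := fun s => C.Div s u) (Nat.zero_le _) (C.div_zero' u)
  refine ⟨v, hvn, fun s hs => ⟨fun h => Nat.le_findGreatest hs h, fun h => C.div_mono h hdv⟩, ?_⟩
  refine Set.eq_of_subset_of_subset ?_ ?_
  · rintro _ ⟨w, rfl⟩
    exact dvd_sub (hdv.1.mul_right _) (hdv.2.mul_left _)
  · intro z hz
    rcases Nat.lt_or_ge v C.n with hlt | hge
    · obtain ⟨⟨u₁, h1⟩, ⟨u₂, h2⟩⟩ := hdv
      obtain ⟨k, hk⟩ := hz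
      have hnot : ¬ C.Div (v + 1) u := fun h => by
        have := Nat.le_findGreatest (P := fun s => C.Div s u) (show v + 1 ≤ C.n by omega) h
        omega
      rcases C.isUnit_or_dvd u₁ with hu | hu
      · obtain ⟨e, he⟩ := hu.exists_right_inv
        refine ⟨(0, e * k), ?_⟩
        simp only [det, h1, zero_mul, sub_zero]
        rw [hk, mul_assoc, ← mul_assoc u₁, he, one_mul]
      rcases C.isUnit_or_dvd u₂ with hu' | hu'
      · obtain ⟨e, he⟩ := hu'.exists_right_inv
        refine ⟨(-(e * k), 0), ?_⟩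
        simp only [det, h2, mul_zero, zero_sub, neg_mul, neg_neg]
        rw [hk]
        calc e * k * (((p ^ v : ℕ) : ZMod (p ^ C.n)) * u₂)
            = ((p ^ v : ℕ) : ZMod (p ^ C.n)) * ((u₂ * e) * k) := by ring
          _ = _ := by rw [he, one_mul]
      · refine absurd ⟨?_, ?_⟩ hnot
        · rw [h1, pow_succ, Nat.cast_mul]; exact mul_dvd_mul_left _ hu
        · rw [h2, pow_succ, Nat.cast_mul]; exact mul_dvd_mul_left _ hu'
    · refine ⟨0, ?_⟩
      have hvn' : v = C.n := le_antisymm hvn hge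
      simp only [Set.mem_setOf_eq] at hz
      rw [hvn', C.cast_pow_n, zero_dvd_iff] at hz
      simp [det, hz]

theorem det_phi_eq_iff (g h h' : G) :
    C.det (C.phi g) (C.phi h) = C.det (C.phi g) (C.phi h') ↔ h⁻¹ * h' ∈ centralizer ({g} : Set G) := by
  have e := C.phi_mul h (h⁻¹ * h')
  rw [mul_inv_cancel_left] at e
  rw [mem_centralizer_singleton_iff, eq_comm (a := (h⁻¹ * h') * g), C.commute_iff g, e]
  set u := C.phi g
  set w := C.phi (h⁻¹ * h')
  set w₀ := C.phi h
  simp only [det]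
  constructor
  · intro hh
    refine (C.isUnit_cc h).mul_right_eq_zero.1 ?_
    linear_combination (-1 : ZMod (p ^ C.n)) * hh
  · intro hh
    linear_combination (-(C.cc h)) * hh

theorem exists_index_centralizer (hp2 : p ≠ 2) (g : G) :
    ∃ v ≤ C.n, (centralizer ({g} : Set G)).index = p ^ (C.n - v) ∧
      ∀ s ≤ C.n, C.Div s (C.phi g) ↔ s ≤ v := by
  obtain ⟨v, hv, hiff, hr⟩ := C.exists_level (C.phi g)
  refine ⟨v, hv, ?_, hiff⟩
  rw [index_eq_card_range _ (fun h => C.det (C.phi g) (C.phi h)) (fun h h' => C.det_phi_eq_iff g h h'),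
    show (fun h => C.det (C.phi g) (C.phi h)) = C.det (C.phi g) ∘ C.phi from rfl,
    (C.phi_surjective hp2).range_comp, hr, ← C.card_multiples hv]
  rfl

theorem index_centralizer_le_iff (hp2 : p ≠ 2) (g : G) {s : ℕ} (hs : s ≤ C.n) :
    (centralizer ({g} : Set G)).index ≤ p ^ (C.n - s) ↔ C.Div s (C.phi g) := by
  obtain ⟨v, hv, hi, hiff⟩ := C.exists_index_centralizer hp2 g
  rw [hi, hiff s hs, Nat.pow_le_pow_iff_right hp.out.one_lt]
  omega

theorem index_centralizer_eq_iff (hp2 : p ≠ 2) (g : G) {s : ℕ} (hs : s < C.n) :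
    (centralizer ({g} : Set G)).index = p ^ (C.n - s) ↔
      C.Div s (C.phi g) ∧ ¬ C.Div (s + 1) (C.phi g) := by
  obtain ⟨v, hv, hi, hiff⟩ := C.exists_index_centralizer hp2 g
  rw [hi, hiff s hs.le, hiff (s + 1) hs, Nat.pow_right_inj hp.out.two_le]
  omega

/-- The preimage of `Div s`. -/
noncomputable def divSubgroup (s : ℕ) : Subgroup G where
  carrier := {g | C.Div s (C.phi g)}
  one_mem' := by simp [Div, C.phi_one]
  mul_mem' := by
    intro g h hg hh
    simp only [Set.mem_setOf_eq, C.phi_mul]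
    exact ⟨dvd_add hg.1 (hh.1.mul_left _), dvd_add hg.2 (hh.2.mul_left _)⟩
  inv_mem' := by
    intro g hg
    have e := C.phi_mul g g⁻¹
    rw [mul_inv_cancel, C.phi_one] at e
    have e1 := congrArg Prod.fst e
    have e2 := congrArg Prod.snd e
    simp only [Prod.fst_zero, Prod.snd_zero] at e1 e2
    obtain ⟨c, hc⟩ := (C.isUnit_cc g).exists_left_inv
    refine ⟨?_, ?_⟩
    · rw [show (C.phi g⁻¹).1 = c * -(C.phi g).1 by linear_combination (-c) * e1 - (C.phi g⁻¹).1 * hc]
      exact (dvd_neg.2 hg.1).mul_left _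
    · rw [show (C.phi g⁻¹).2 = c * -(C.phi g).2 by linear_combination (-c) * e2 - (C.phi g⁻¹).2 * hc]
      exact (dvd_neg.2 hg.2).mul_left _

theorem mem_divSubgroup {s : ℕ} {g : G} : g ∈ C.divSubgroup s ↔ C.Div s (C.phi g) := Iff.rfl

theorem phi_pow (g : G) (k : ℕ) : C.phi (g ^ k) =
    ((∑ t ∈ Finset.range k, C.cc g ^ t) * (C.phi g).1,
      (∑ t ∈ Finset.range k, C.cc g ^ t) * (C.phi g).2) := by
  induction k with
  | zero =>
    simp [C.phi_one]
    rfl
  | succ k ih =>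
    rw [pow_succ', C.phi_mul, ih, geom_sum_succ]
    exact Prod.ext (by ring) (by ring)

theorem agemo_eq_divSubgroup (hp2 : p ≠ 2) {s : ℕ} (hs : s ≤ C.n) :
    closure {x : G | ∃ y : G, y ^ p ^ s = x} = C.divSubgroup s := by
  refine le_antisymm ((closure_le _).2 ?_) ?_
  · rintro _ ⟨y, rfl⟩
    rw [SetLike.mem_coe, mem_divSubgroup, C.phi_pow]
    have h : ((p ^ s : ℕ) : ZMod (p ^ C.n)) ∣ ∑ t ∈ Finset.range (p ^ s), C.cc y ^ t := by
      obtain ⟨j, i, rfl⟩ := C.exists_rep y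
      rw [C.cc_rep, ← Nat.cast_pow C.r i]
      simp only [← Nat.cast_pow (C.r ^ i)]
      rw [← Nat.cast_sum]
      exact map_dvd (Nat.castRingHom _) (pow_dvd_gsum_pow (cast_pow_eq_one C.r_cast i) s)
    exact ⟨h.mul_right _, h.mul_right _⟩
  · intro g hg
    obtain ⟨j, i, rfl⟩ := C.exists_rep g
    rw [mem_divSubgroup, C.phi_rep, Div, C.cast_dvd_iff hs, C.cast_dvd_iff hs, C.pow_dvd_gsum hp2] at hg
    obtain ⟨⟨j', rfl⟩, ⟨i', rfl⟩⟩ := hg
    exact mul_mem (subset_closure ⟨C.a ^ j', by rw [← pow_mul]; congr 1; ring⟩)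
      (subset_closure ⟨C.x ^ i', by rw [← pow_mul]; congr 1; ring⟩)

theorem center_eq_divSubgroup (hp2 : p ≠ 2) : center G = C.divSubgroup C.n := by
  ext g
  rw [C.mem_center_iff' hp2, mem_divSubgroup, C.div_n_iff]

theorem card_fibre (hp2 : p ≠ 2) (A : Set (ZMod (p ^ C.n) × ZMod (p ^ C.n))) :
    Nat.card {g : G // C.phi g ∈ A} = Nat.card (center G) * Nat.card A := by
  classical
  choose sec hsec using C.phi_surjective hp2
  rw [← Nat.card_prod]
  refine Nat.card_congr
    { toFun := fun g => (⟨(sec (C.phi g.1))⁻¹ * g.1, ?_⟩, ⟨C.phi g.1, g.2⟩)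
      invFun := fun z => ⟨sec z.2.1 * z.1.1, ?_⟩
      left_inv := fun g => Subtype.ext (mul_inv_cancel_left _ _)
      right_inv := ?_ }
  · rw [C.mem_center_iff' hp2, ← C.phi_eq_iff, hsec]
  · rw [C.phi_mul, hsec, (C.mem_center_iff' hp2 _).1 z.1.2]
    simp only [Prod.fst_zero, Prod.snd_zero, mul_zero, add_zero]
    exact z.2.2
  · rintro ⟨⟨z, hz⟩, ⟨u, hu⟩⟩
    have hu' : C.phi (sec u * z) = u := by
      rw [C.phi_mul, hsec, (C.mem_center_iff' hp2 _).1 hz]
      simp
    refine Prod.ext (Subtype.ext ?_) (Subtype.ext hu')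
    simp only [hu', inv_mul_cancel_left]

theorem card_div {s : ℕ} (hs : s ≤ C.n) :
    Nat.card {u : ZMod (p ^ C.n) × ZMod (p ^ C.n) | C.Div s u} = p ^ (2 * (C.n - s)) := by
  have e : Nat.card {u : ZMod (p ^ C.n) × ZMod (p ^ C.n) | C.Div s u} = Nat.card
      ({z : ZMod (p ^ C.n) // ((p ^ s : ℕ) : ZMod (p ^ C.n)) ∣ z} ×
        {z : ZMod (p ^ C.n) // ((p ^ s : ℕ) : ZMod (p ^ C.n)) ∣ z}) :=
    Nat.card_congr
      { toFun := fun u => (⟨u.1.1, u.2.1⟩, ⟨u.1.2, u.2.2⟩)
        invFun := fun u => ⟨(u.1.1, u.2.1), u.1.2, u.2.2⟩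
        left_inv := fun _ => rfl
        right_inv := fun _ => rfl }
  rw [e, Nat.card_prod, C.card_multiples hs, two_mul, pow_add]

theorem card_class_size (hp2 : p ≠ 2) {i : ℕ} (hi : 1 ≤ i) (hin : i ≤ C.n) :
    Nat.card {g : G // (centralizer ({g} : Set G)).index = p ^ i} =
      Nat.card (center G) * (p ^ (2 * i) - p ^ (2 * i - 2)) := by
  have hs : C.n - i < C.n := by omega
  have e : Nat.card {g : G // (centralizer ({g} : Set G)).index = p ^ i} =
      Nat.card {g : G // C.phi g ∈ {u | C.Div (C.n - i) u} \ {u | C.Div (C.n - i + 1) u}} := by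
    refine Nat.card_congr (Equiv.subtypeEquivRight fun g => ?_)
    have := C.index_centralizer_eq_iff hp2 g hs
    rw [show C.n - (C.n - i) = i by omega] at this
    exact this
  rw [e, C.card_fibre hp2, Nat.card_coe_set_eq,
    Set.ncard_sdiff (show {u | C.Div (C.n - i + 1) u} ⊆ {u | C.Div (C.n - i) u} from
      fun u hu => C.div_mono (Nat.le_succ _) hu) (Set.toFinite _),
    ← Nat.card_coe_set_eq, ← Nat.card_coe_set_eq, C.card_div (by omega), C.card_div (by omega)]
  congr 3 <;> omega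

theorem pow_mem_frattini (hG : IsPGroup p G) (g : G) : g ^ p ∈ frattini G := by
  rw [frattini, Order.radical, Subgroup.mem_iInf]
  intro M
  rw [Subgroup.mem_iInf]
  intro hM
  haveI := hG.isNilpotent
  haveI hMn : M.Normal := NormalizerCondition.normal_of_coatom M Group.normalizerCondition_of_isNilpotent hM
  obtain ⟨k, hk⟩ := IsPGroup.iff_card.1 (hG.to_quotient M)
  have hk1 : k = 1 := by
    have hk0 : k ≠ 0 := by
      rintro rfl
      rw [pow_zero, ← Subgroup.index_eq_card, index_eq_one] at hk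
      exact hM.1 hk
    by_contra hk1
    obtain ⟨K, hK⟩ := Sylow.exists_subgroup_card_pow_prime p
      (show p ^ 1 ∣ Nat.card (G ⧸ M) from hk ▸ pow_dvd_pow p (by omega))
    have hle : M ≤ K.comap (QuotientGroup.mk' M) := QuotientGroup.le_comap_mk' M K
    rcases hle.eq_or_lt with heq | hlt
    · have : K = ⊥ := by
        rw [← map_comap_eq_self_of_surjective (QuotientGroup.mk'_surjective M) K, ← heq,
          QuotientGroup.map_mk'_self]
      rw [this, card_bot, pow_one] at hK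
      exact hp.out.ne_one hK.symm
    · have : K = ⊤ := by
        rw [← map_comap_eq_self_of_surjective (QuotientGroup.mk'_surjective M) K, hM.2 _ hlt,
          map_top_of_surjective _ (QuotientGroup.mk'_surjective M)]
      rw [this, card_top, hk] at hK
      have := Nat.pow_right_injective hp.out.two_le hK
      omega
  rw [hk1, pow_one] at hk
  rw [← QuotientGroup.eq_one_iff, ← QuotientGroup.mk'_apply, map_pow, ← hk]
  exact pow_card_eq_one'

theorem not_mem_frattini_iff (hp2 : p ≠ 2) (hG : IsPGroup p G) (hn : 0 < C.n) (g : G) :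
    g ∉ frattini G ↔ ¬ C.Div 1 (C.phi g) := by
  constructor
  · intro hg hd
    refine hg ?_
    have : g ∈ closure {x : G | ∃ y : G, y ^ p ^ 1 = x} := by
      rw [C.agemo_eq_divSubgroup hp2 hn]; exact hd
    refine (closure_le _).2 ?_ this
    rintro _ ⟨y, rfl⟩
    rw [pow_one]
    exact pow_mem_frattini hG y
  · intro hd hg
    let π : ZMod (p ^ C.n) →+* ZMod p := ZMod.castHom (dvd_pow_self p hn.ne') (ZMod p)
    have hπc : ∀ h : G, π (C.cc h) = 1 := by
      intro h
      rw [cc, map_add, map_mul, map_one, map_natCast, (ZMod.natCast_eq_zero_iff C.d p).2 C.dvd_d]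
      simp
    have hπ0 : ∀ z : ZMod (p ^ C.n), π z = 0 → ((p ^ 1 : ℕ) : ZMod (p ^ C.n)) ∣ z := by
      intro z hz
      rw [← ZMod.natCast_zmod_val z, map_natCast, ZMod.natCast_eq_zero_iff] at hz
      rw [pow_one, ← ZMod.natCast_zmod_val z]
      exact map_dvd (Nat.castRingHom _) hz
    let f₁ : G →* Multiplicative (ZMod p) :=
      MonoidHom.mk' (fun h => Multiplicative.ofAdd (π (C.phi h).1)) (fun h k => by
        simp only [C.phi_mul, map_add, map_mul, hπc, one_mul, ofAdd_add])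
    let f₂ : G →* Multiplicative (ZMod p) :=
      MonoidHom.mk' (fun h => Multiplicative.ofAdd (π (C.phi h).2)) (fun h k => by
        simp only [C.phi_mul, map_add, map_mul, hπc, one_mul, ofAdd_add])
    have key : ∀ f : G →* Multiplicative (ZMod p), f g = 1 := by
      intro f
      by_contra hfg
      have hlt : f.ker.index ∣ p := by
        rw [index_ker]
        have := f.range.card_subgroup_dvd_card
        rwa [Nat.card_congr Multiplicative.toAdd, Nat.card_zmod] at this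
      have hidx : f.ker.index = p := by
        refine ((Nat.dvd_prime hp.out).1 hlt).resolve_left fun h1 => hfg ?_
        rw [index_eq_one] at h1
        exact MonoidHom.mem_ker.1 (h1 ▸ mem_top g)
      have hco : IsCoatom f.ker := by
        refine ⟨fun h => ?_, fun K hK => ?_⟩
        · rw [h, index_top] at hidx; exact hp.out.ne_one hidx.symm
        · rcases (Nat.dvd_prime hp.out).1 (hidx ▸ index_dvd_of_le hK.le) with h | h
          · exact index_eq_one.1 h
          · refine absurd (Subgroup.eq_of_le_of_card_ge hK.le ?_) hK.ne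
            have e1 := K.card_mul_index
            have e2 := f.ker.card_mul_index
            rw [h] at e1
            rw [hidx] at e2
            exact (Nat.eq_of_mul_eq_mul_right hp.out.pos (e1.trans e2.symm)).le
      exact hfg (MonoidHom.mem_ker.1 (frattini_le_coatom hco hg))
    exact hd ⟨hπ0 _ (ofAdd_eq_one.1 (key f₁)), hπ0 _ (ofAdd_eq_one.1 (key f₂))⟩

theorem isMulCommutative_centralizer_iff (hp2 : p ≠ 2) (hn : 0 < C.n) (g : G) :
    IsMulCommutative (centralizer ({g} : Set G)) ↔ ¬ C.Div 1 (C.phi g) := by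
  have hmem : ∀ h : G, h ∈ centralizer ({g} : Set G) ↔ C.det (C.phi g) (C.phi h) = 0 := fun h => by
    rw [mem_centralizer_singleton_iff, eq_comm, C.commute_iff g h]
  constructor
  · intro hc hd
    obtain ⟨⟨u₁, h1⟩, ⟨u₂, h2⟩⟩ := hd
    have hpn : ((p ^ (C.n - 1) : ℕ) : ZMod (p ^ C.n)) * (p : ZMod (p ^ C.n)) = 0 := by
      rw [← Nat.cast_mul, ← pow_succ, show C.n - 1 + 1 = C.n by omega, C.cast_pow_n]
    have hne : ((p ^ (C.n - 1) : ℕ) : ZMod (p ^ C.n)) ≠ 0 := by
      rw [Ne, ZMod.natCast_eq_zero_iff, Nat.pow_dvd_pow_iff_le_right hp.out.one_lt]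
      omega
    set e := ((p ^ (C.n - 1) : ℕ) : ZMod (p ^ C.n))
    obtain ⟨h₁, hh₁⟩ := C.phi_surjective hp2 (e, 0)
    obtain ⟨h₂, hh₂⟩ := C.phi_surjective hp2 (0, e)
    have m₁ : h₁ ∈ centralizer ({g} : Set G) := by
      rw [hmem, hh₁]; simp only [det, h1, h2, pow_one]
      linear_combination (-u₂) * hpn
    have m₂ : h₂ ∈ centralizer ({g} : Set G) := by
      rw [hmem, hh₂]; simp only [det, h1, h2, pow_one]
      linear_combination u₁ * hpn
    have comm : ∀ h k, h ∈ centralizer ({g} : Set G) → k ∈ centralizer ({g} : Set G) →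
        C.det (C.phi h) (C.phi k) = 0 := fun h k hh hk =>
      (C.commute_iff h k).1 (congrArg Subtype.val (hc.1.1 ⟨h, hh⟩ ⟨k, hk⟩))
    obtain ⟨w, hwu, hwdet⟩ : ∃ w : ZMod (p ^ C.n) × ZMod (p ^ C.n),
        (IsUnit w.1 ∨ IsUnit w.2) ∧ C.det (C.phi g) w = 0 := by
      obtain ⟨v, hv, hiff, -⟩ := C.exists_level (C.phi g)
      rcases Nat.lt_or_ge v C.n with hlt | hge
      · obtain ⟨⟨w₁, k1⟩, ⟨w₂, k2⟩⟩ := (hiff v hv).2 le_rfl
        refine ⟨(w₁, w₂), ?_, by simp only [det, k1, k2]; ring⟩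
        rcases C.isUnit_or_dvd w₁ with hu | hu
        · exact Or.inl hu
        rcases C.isUnit_or_dvd w₂ with hu' | hu'
        · exact Or.inr hu'
        exfalso
        have : C.Div (v + 1) (C.phi g) := ⟨by rw [k1, pow_succ, Nat.cast_mul]; exact mul_dvd_mul_left _ hu,
          by rw [k2, pow_succ, Nat.cast_mul]; exact mul_dvd_mul_left _ hu'⟩
        have := (hiff (v + 1) (by omega)).1 this
        omega
      · refine ⟨(1, 0), Or.inl isUnit_one, ?_⟩
        have := (hiff C.n le_rfl).2 hge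
        rw [C.div_n_iff] at this
        simp [det, this]
    obtain ⟨h₀, hh₀⟩ := C.phi_surjective hp2 w
    have m₀ : h₀ ∈ centralizer ({g} : Set G) := by rw [hmem, hh₀]; exact hwdet
    have d1 := comm h₀ h₁ m₀ m₁
    have d2 := comm h₀ h₂ m₀ m₂
    rw [hh₀, hh₁] at d1
    rw [hh₀, hh₂] at d2
    simp only [det, mul_zero, zero_sub, neg_eq_zero, zero_mul, sub_zero] at d1 d2
    rcases hwu with hu | hu
    · exact hne (hu.mul_right_eq_zero.1 d2)
    · exact hne (hu.mul_left_eq_zero.1 d1)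
  · intro hd
    refine ⟨⟨fun ⟨h, hh⟩ ⟨k, hk⟩ => Subtype.ext ?_⟩⟩
    rw [hmem] at hh hk
    show h * k = k * h
    rw [C.commute_iff h k]
    simp only [det] at hh hk ⊢
    rcases C.isUnit_or_dvd (C.phi g).1 with hu | hu
    · refine hu.mul_right_eq_zero.1 ?_
      linear_combination (C.phi h).1 * hk - (C.phi k).1 * hh
    rcases C.isUnit_or_dvd (C.phi g).2 with hu' | hu'
    · refine hu'.mul_right_eq_zero.1 ?_
      linear_combination (C.phi h).2 * hk - (C.phi k).2 * hh
    · exact absurd ⟨by rwa [pow_one], by rwa [pow_one]⟩ hd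

end Coord

end Cfsg.Agent.Lib.Metacyclic
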