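import Mathlib
import Cfsg.Prelude.Def_BaumannBlocks
import Cfsg.Agent.Lib.Metacyclic.Elements

/-!
Subgroups of a metacyclic `p`-group, `p` odd: orders, derived subgroups and centralisers.
-/

namespace Cfsg.Agent.Lib.Metacyclic

open Subgroup
open scoped commutatorElement

universe u

theorem pow_dvd_pow_mul_iff {p k n z : ℕ} (hp : 0 < p) (hk : k ≤ n) :
    p ^ n ∣ p ^ k * z ↔ p ^ (n - k) ∣ z := by
  conv_lhs => rw [← Nat.add_sub_cancel' hk, pow_add]
  exact Nat.mul_dvd_mul_iff_left (pow_pos hp k)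

theorem exists_mul_modEq_one {p M w : ℕ} [hp : Fact p.Prime] (hw : ¬ p ∣ w) :
    ∃ w', w * w' ≡ 1 [MOD p ^ M] := by
  refine ⟨((w : ZMod (p ^ M))⁻¹).val, ?_⟩
  haveI : NeZero (p ^ M) := ⟨pow_ne_zero _ hp.out.ne_zero⟩
  rw [← ZMod.natCast_eq_natCast_iff]
  push_cast
  rw [ZMod.natCast_zmod_val, ZMod.coe_mul_inv_eq_one _ ((hp.out.coprime_iff_not_dvd.2 hw).symm.pow_right M)]

namespace Coord

variable {G : Type u} [Group G] {p : ℕ} (C : Coord G p)

/-- Parameters `α β γ` of a subgroup. -/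
def Params (R : Subgroup G) (α β γ : ℕ) : Prop :=
  α ≤ C.m ∧ β ≤ C.l ∧ C.a ^ γ * C.x ^ p ^ β ∈ R ∧
    (∀ k, C.a ^ k ∈ R ↔ p ^ α ∣ k) ∧
    (∀ j i, C.a ^ j * C.x ^ i ∈ R → p ^ β ∣ i) ∧
    ∀ g ∈ R, ∃ s w : ℕ, g = (C.a ^ p ^ α) ^ s * (C.a ^ γ * C.x ^ p ^ β) ^ w

variable [Finite G] [hp : Fact p.Prime]

theorem pow_a_m : C.a ^ p ^ C.m = 1 := C.orderOf_a ▸ pow_orderOf_eq_one C.a

theorem exists_params (R : Subgroup G) : ∃ α β γ, C.Params R α β γ := by
  classical
  have hA : ∃ t, C.a ^ p ^ t ∈ R := ⟨C.m, by rw [C.pow_a_m]; exact R.one_mem⟩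
  obtain ⟨s, hs⟩ := C.pow_l
  have hB : ∃ t, ∃ γ, C.a ^ γ * C.x ^ p ^ t ∈ R := by
    refine ⟨C.l, p ^ C.m * (s + 1) - s, ?_⟩
    rw [hs, ← pow_add, Nat.sub_add_cancel ((Nat.le_succ s).trans
      (Nat.le_mul_of_pos_left _ (pow_pos hp.out.pos _))), pow_mul, C.pow_a_m, one_pow]
    exact R.one_mem
  set α := Nat.find hA with hα
  set β := Nat.find hB with hβ
  obtain ⟨γ, hγ⟩ : ∃ γ, C.a ^ γ * C.x ^ p ^ β ∈ R := Nat.find_spec hB
  have hk : ∀ k, C.a ^ k ∈ R ↔ p ^ α ∣ k := by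
    intro k
    constructor
    · intro hk
      rcases Nat.eq_zero_or_pos k with rfl | hkp
      · exact dvd_zero _
      obtain ⟨t, w, hw, rfl⟩ := Nat.exists_eq_pow_mul_and_not_dvd hkp.ne' p hp.out.ne_one
      obtain ⟨w', hw'⟩ := exists_mul_modEq_one (M := C.m) hw
      refine (pow_dvd_pow p (Nat.find_min' hA ?_)).trans (dvd_mul_right _ _)
      have h := R.pow_mem hk w'
      rwa [← pow_mul, mul_assoc, show C.a ^ (p ^ t * (w * w')) = C.a ^ p ^ t by
        rw [pow_eq_pow_iff_modEq, C.orderOf_a]; simpa using hw'.mul_left (p ^ t)] at h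
    · rintro ⟨c, rfl⟩
      rw [pow_mul]; exact R.pow_mem (Nat.find_spec hA) c
  have hdiv : ∀ j i, C.a ^ j * C.x ^ i ∈ R → p ^ β ∣ i := by
    intro j i hi
    rcases Nat.eq_zero_or_pos β with h0 | hb
    · rw [h0, pow_zero]; exact one_dvd _
    rcases Nat.eq_zero_or_pos i with rfl | hip
    · exact dvd_zero _
    obtain ⟨t, w, hw, rfl⟩ := Nat.exists_eq_pow_mul_and_not_dvd hip.ne' p hp.out.ne_one
    obtain ⟨w', hw'⟩ := exists_mul_modEq_one (M := C.l) hw
    have hbl : β ≤ C.l := Nat.find_min' hB ⟨p ^ C.m * (s + 1) - s, by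
      rw [hs, ← pow_add, Nat.sub_add_cancel ((Nat.le_succ s).trans
        (Nat.le_mul_of_pos_left _ (pow_pos hp.out.pos _))), pow_mul, C.pow_a_m, one_pow]
      exact R.one_mem⟩
    have h1 : 1 ≤ w * w' := by
      by_contra hc
      have h0 : w * w' = 0 := by omega
      rw [h0] at hw'
      have := Nat.modEq_iff_dvd' (Nat.zero_le 1) |>.1 hw'
      rw [Nat.dvd_one, Nat.pow_eq_one] at this
      exact hp.out.ne_one (this.resolve_right (by omega))
    obtain ⟨c, hc⟩ := (Nat.modEq_iff_dvd' h1).1 hw'.symm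
    refine (pow_dvd_pow p (Nat.find_min' hB ?_)).trans (dvd_mul_right _ _)
    have h := R.pow_mem hi w'
    rw [C.rep_pow, show p ^ t * w * w' = p ^ C.l * (p ^ t * c) + p ^ t by
      rw [mul_assoc, show w * w' = p ^ C.l * c + 1 by omega]; ring,
      pow_add, pow_mul C.x, hs, ← pow_mul, ← mul_assoc, ← pow_add] at h
    exact ⟨_, h⟩
  refine ⟨α, β, γ, Nat.find_min' hA (by rw [C.pow_a_m]; exact R.one_mem), ?_, hγ, hk, hdiv, ?_⟩
  · refine Nat.find_min' hB ⟨p ^ C.m * (s + 1) - s, ?_⟩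
    rw [hs, ← pow_add, Nat.sub_add_cancel ((Nat.le_succ s).trans
      (Nat.le_mul_of_pos_left _ (pow_pos hp.out.pos _))), pow_mul, C.pow_a_m, one_pow]
    exact R.one_mem
  · intro g hg
    obtain ⟨j, i, rfl⟩ := C.exists_rep g
    obtain ⟨w, rfl⟩ := hdiv j i hg
    have hu : (C.a ^ j * C.x ^ (p ^ β * w)) * ((C.a ^ γ * C.x ^ p ^ β) ^ w)⁻¹ ∈ R ⊓ zpowers C.a := by
      refine ⟨R.mul_mem hg (R.inv_mem (R.pow_mem hγ w)), ?_⟩
      show _ ∈ zpowers C.a
      rw [C.rep_pow, mul_inv_rev, mul_assoc, ← mul_assoc (C.x ^ _), mul_inv_cancel, one_mul]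
      exact mul_mem (npow_mem_zpowers _ _) (inv_mem (npow_mem_zpowers _ _))
    obtain ⟨k, hk'⟩ := (C.mem_zpowers_iff_exists _).1 hu.2
    obtain ⟨c, rfl⟩ := (hk k).1 (hk' ▸ hu.1)
    exact ⟨c, w, by rw [← pow_mul, ← hk']; group⟩

variable {C}
variable {R : Subgroup G} {α β γ : ℕ}

theorem Params.u_mem (h : C.Params R α β γ) : C.a ^ p ^ α ∈ R := (h.2.2.2.1 _).2 dvd_rfl

theorem Params.card_eq (h : C.Params R α β γ) :
    Nat.card R = p ^ ((C.m - α) + (C.l - β)) := by
  obtain ⟨hα, hβ, hy, hk, hdiv, hgen⟩ := h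
  set u := C.a ^ p ^ α with hu
  set y := C.a ^ γ * C.x ^ p ^ β with hy'
  have hum : u ^ p ^ (C.m - α) = 1 := by
    rw [hu, ← pow_mul, ← pow_add, Nat.add_sub_cancel' hα, C.pow_a_m]
  have hyl : ∃ c, y ^ p ^ (C.l - β) = u ^ c := by
    obtain ⟨s, hs⟩ := C.pow_l
    have h1 : y ^ p ^ (C.l - β) ∈ R := R.pow_mem hy _
    have e : y ^ p ^ (C.l - β) = C.a ^ (γ * gsum (C.r ^ p ^ β) (p ^ (C.l - β)) + s) := by
      rw [hy', C.rep_pow, ← pow_add p, Nat.add_sub_cancel' hβ, hs, ← pow_add]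
    rw [e] at h1
    obtain ⟨c, hc⟩ := (hk _).1 h1
    exact ⟨c, by rw [e, hc, hu, pow_mul]⟩
  let f : Fin (p ^ (C.m - α)) × Fin (p ^ (C.l - β)) → R := fun z =>
    ⟨u ^ (z.1 : ℕ) * y ^ (z.2 : ℕ), R.mul_mem (R.pow_mem ((hk _).2 dvd_rfl) _) (R.pow_mem hy _)⟩
  have hf : Function.Bijective f := by
    constructor
    · rintro ⟨s₁, w₁⟩ ⟨s₂, w₂⟩ h
      have h' := congrArg Subtype.val h
      simp only [f, hy', C.rep_pow, hu, ← pow_mul, ← mul_assoc, ← pow_add] at h'
      have hw : w₁ = w₂ := by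
        have hm := C.rep_inj h'
        have e : p ^ β * p ^ (C.l - β) = p ^ C.l := by rw [← pow_add, Nat.add_sub_cancel' hβ]
        have hpos : 0 < p ^ β := pow_pos hp.out.pos _
        have := hm.eq_of_lt_of_lt (e ▸ Nat.mul_lt_mul_of_pos_left w₁.2 hpos)
          (e ▸ Nat.mul_lt_mul_of_pos_left w₂.2 hpos)
        exact Fin.ext (Nat.eq_of_mul_eq_mul_left hpos this)
      subst hw
      rw [pow_add, pow_add, mul_assoc, mul_assoc, mul_left_inj, pow_eq_pow_iff_modEq,
        C.orderOf_a] at h'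
      have e : p ^ α * p ^ (C.m - α) = p ^ C.m := by rw [← pow_add, Nat.add_sub_cancel' hα]
      have hpos : 0 < p ^ α := pow_pos hp.out.pos _
      have := h'.eq_of_lt_of_lt (e ▸ Nat.mul_lt_mul_of_pos_left s₁.2 hpos)
        (e ▸ Nat.mul_lt_mul_of_pos_left s₂.2 hpos)
      exact Prod.ext (Fin.ext (Nat.eq_of_mul_eq_mul_left hpos this)) rfl
    · rintro ⟨g, hg⟩
      obtain ⟨s, w, rfl⟩ := hgen g hg
      obtain ⟨c, hc⟩ := hyl
      refine ⟨⟨⟨(s + c * (w / p ^ (C.l - β))) % p ^ (C.m - α), Nat.mod_lt _ (pow_pos hp.out.pos _)⟩,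
        ⟨w % p ^ (C.l - β), Nat.mod_lt _ (pow_pos hp.out.pos _)⟩⟩, Subtype.ext ?_⟩
      simp only [f]
      rw [← pow_eq_pow_mod _ hum]
      conv_rhs => rw [← Nat.div_add_mod w (p ^ (C.l - β))]
      rw [pow_add y, pow_mul y, hc, pow_add u, pow_mul, mul_assoc]
  rw [← Nat.card_congr (Equiv.ofBijective f hf), Nat.card_prod, Nat.card_fin, Nat.card_fin, pow_add]

variable (C) in
theorem card_group : Nat.card G = p ^ (C.m + C.l) := by
  obtain ⟨α, β, γ, h⟩ := C.exists_params ⊤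
  have hα : α = 0 := by
    have := (h.2.2.2.1 1).1 (mem_top _)
    rw [Nat.dvd_one, pow_eq_one_iff] at this
    exact this.resolve_left hp.out.ne_one
  have hβ : β = 0 := by
    have := h.2.2.2.2.1 0 1 (mem_top _)
    rw [Nat.dvd_one, pow_eq_one_iff] at this
    exact this.resolve_left hp.out.ne_one
  have := h.card_eq
  rw [hα, hβ, Nat.sub_zero, Nat.sub_zero, Nat.card_congr (Subgroup.topEquiv).toEquiv] at this
  exact this

variable (C) in
theorem index_commutator : (commutator G).index = p ^ (C.m + C.l - C.n) := by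
  apply Nat.eq_of_mul_eq_mul_left (pow_pos hp.out.pos C.n)
  have h := (commutator G).card_mul_index
  rw [C.card_commutator, C.card_group] at h
  rw [h, ← pow_add]; congr 1
  have := C.n_le_m; omega

theorem Params.phi_eq (g : G) (h : C.Params R α β γ) (hg : g ∈ R) :
    ∃ s T : ℕ, C.phi g = (((p ^ α * s + γ * T : ℕ) : ZMod (p ^ C.n)),
      ((gsum C.r (p ^ β) * T : ℕ) : ZMod (p ^ C.n))) := by
  obtain ⟨s, w, rfl⟩ := h.2.2.2.2.2 g hg
  refine ⟨s, gsum (C.r ^ p ^ β) w, ?_⟩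
  rw [C.rep_pow, ← pow_mul, ← mul_assoc, ← pow_add, C.phi_rep, gsum_mul]

variable (C) in
theorem E_mul_mem (z₀ z : ZMod (p ^ C.n)) : C.E (z₀ * z) ∈ zpowers (C.E z₀) := by
  have : C.E (z₀ * z) = C.E z₀ ^ z.val := by
    conv_lhs => rw [← ZMod.natCast_zmod_val z₀, ← ZMod.natCast_zmod_val z, ← Nat.cast_mul]
    rw [E_natCast, pow_mul]; rfl
  rw [this]; exact npow_mem_zpowers _ _

theorem Params.phi_u (_h : C.Params R α β γ) :
    C.phi (C.a ^ p ^ α) = (((p ^ α : ℕ) : ZMod (p ^ C.n)), 0) := by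
  have := C.phi_rep (p ^ α) 0
  rwa [pow_zero, mul_one, gsum_zero, Nat.cast_zero] at this

theorem Params.commutator_eq (h : C.Params R α β γ) :
    ⁅R, R⁆ = zpowers (C.E ((p ^ α * gsum C.r (p ^ β) : ℕ) : ZMod (p ^ C.n))) := by
  refine le_antisymm (commutator_le.2 fun g hg k hk => ?_) (zpowers_le.2 ?_)
  · obtain ⟨s, T, e⟩ := h.phi_eq g hg
    obtain ⟨s', T', e'⟩ := h.phi_eq k hk
    rw [C.commutatorElement_eq, e, e']
    simp only [det]
    convert C.E_mul_mem _ ((s' : ZMod (p ^ C.n)) * T - s * T') using 2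
    push_cast; ring
  · have := Subgroup.commutator_mem_commutator h.2.2.1 h.u_mem
    rw [C.commutatorElement_eq, h.phi_u, C.phi_rep] at this
    simpa [det] using this

theorem Params.card_commutator (hp2 : p ≠ 2) (h : C.Params R α β γ) :
    Nat.card (⁅R, R⁆ : Subgroup G) = p ^ (C.n - (α + β)) := by
  obtain ⟨A, hA, hA'⟩ := exists_gsum_pow_eq hp2 C.r_cast β
  rw [h.commutator_eq, Nat.card_zpowers, E_natCast, hA, orderOf_pow, C.orderOf_ad, ← mul_assoc,
    ← pow_add, Nat.Coprime.gcd_mul_right_cancel_right _ ((hp.out.coprime_iff_not_dvd.2 hA').symm.pow_right _)]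
  rcases le_total (α + β) C.n with hle | hle
  · rw [Nat.gcd_eq_right (pow_dvd_pow p hle), Nat.pow_div hle hp.out.pos]
  · rw [Nat.gcd_eq_left (pow_dvd_pow p hle), Nat.div_self (pow_pos hp.out.pos _),
      Nat.sub_eq_zero_of_le hle, pow_zero]

theorem Params.isMulCommutative_iff (hp2 : p ≠ 2) (h : C.Params R α β γ) :
    IsMulCommutative R ↔ C.n ≤ α + β := by
  rw [← commutator_self_eq_bot_iff, ← Subgroup.card_eq_one, h.card_commutator hp2, pow_eq_one_iff,
    or_iff_right hp.out.ne_one, Nat.sub_eq_zero_iff_le]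

theorem Params.card_le_iff (hp2 : p ≠ 2) (h : C.Params R α β γ) :
    Nat.card R ≤ (commutator G).index ↔ IsMulCommutative R := by
  rw [h.isMulCommutative_iff hp2, h.card_eq, C.index_commutator, Nat.pow_le_pow_iff_right hp.out.one_lt]
  have := C.n_le_m
  have := h.1
  have := h.2.1
  omega

theorem Params.card_eq_iff (h : C.Params R α β γ) :
    Nat.card R = (commutator G).index ↔ α + β = C.n := by
  rw [h.card_eq, C.index_commutator, Nat.pow_right_inj hp.out.two_le]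
  have := C.n_le_m
  have := h.1
  have := h.2.1
  omega

theorem isMulCommutative_closure_pair {u v : G} (h : u * v = v * u) :
    IsMulCommutative (closure ({u, v} : Set G)) := by
  have key : closure ({u, v} : Set G) ≤ centralizer (closure ({u, v} : Set G) : Set G) := by
    rw [centralizer_closure, closure_le]
    intro a ha b hb
    rcases ha with rfl | ha <;> rcases hb with rfl | hb <;> simp_all
  exact ⟨⟨fun a b => Subtype.ext ((key b.2) a a.2)⟩⟩

theorem Params.maximal_iff (hp2 : p ≠ 2) (h : C.Params R α β γ) :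
    Maximal (fun K : Subgroup G => IsMulCommutative K) R ↔ α + β = C.n := by
  constructor
  · rintro ⟨hc, hmax⟩
    have hle : C.n ≤ α + β := (h.isMulCommutative_iff hp2).1 hc
    by_contra hne
    have hlt : C.n + 1 ≤ α + β := by omega
    obtain ⟨hα, hβ, hy, hk, hdiv, hgen⟩ := id h
    rcases Nat.eq_zero_or_pos α with h0 | hpos
    · subst h0
      set v := C.x ^ p ^ (β - 1) with hv
      have hcomm : C.a * v = v * C.a := by
        have e := C.phi_rep 1 0
        have e' := C.phi_rep 0 (p ^ (β - 1))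
        rw [pow_zero, pow_one, mul_one] at e
        rw [pow_zero, one_mul, ← hv] at e'
        rw [C.commute_iff, e, e']
        simp only [det, gsum_zero, Nat.cast_one, Nat.cast_zero, one_mul, mul_zero, sub_zero]
        rw [ZMod.natCast_eq_zero_iff, C.pow_dvd_gsum hp2]
        exact pow_dvd_pow p (by omega)
      have hRK : R ≤ closure ({C.a, v} : Set G) := by
        intro g hg
        obtain ⟨s, w, rfl⟩ := hgen g hg
        refine mul_mem (pow_mem (pow_mem (subset_closure (by simp)) _) _) (pow_mem ?_ _)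
        refine mul_mem (pow_mem (subset_closure (by simp)) _) ?_
        rw [show p ^ β = p ^ (β - 1) * p by rw [← pow_succ]; congr 1; omega, pow_mul, ← hv]
        exact pow_mem (subset_closure (by simp)) _
      have hv' : v ∈ R := hmax (isMulCommutative_closure_pair hcomm) hRK (subset_closure (by simp))
      have := hdiv 0 (p ^ (β - 1)) (by rw [pow_zero, one_mul, ← hv]; exact hv')
      rw [Nat.pow_dvd_pow_iff_le_right hp.out.one_lt] at this
      omega
    · set u := C.a ^ p ^ (α - 1) with hu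
      have hcomm : u * (C.a ^ γ * C.x ^ p ^ β) = (C.a ^ γ * C.x ^ p ^ β) * u := by
        have e := C.phi_rep (p ^ (α - 1)) 0
        rw [pow_zero, mul_one, ← hu] at e
        rw [C.commute_iff, e, C.phi_rep]
        simp only [det, gsum_zero, Nat.cast_zero, mul_zero, sub_zero]
        rw [← Nat.cast_mul, ZMod.natCast_eq_zero_iff]
        refine dvd_trans ?_ (mul_dvd_mul_left _ (pow_dvd_gsum_pow C.r_cast β))
        rw [← pow_add]
        exact pow_dvd_pow p (by omega)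
      have hRK : R ≤ closure ({u, C.a ^ γ * C.x ^ p ^ β} : Set G) := by
        intro g hg
        obtain ⟨s, w, rfl⟩ := hgen g hg
        refine mul_mem (pow_mem ?_ _) (pow_mem (subset_closure (by simp)) _)
        rw [show p ^ α = p ^ (α - 1) * p by rw [← pow_succ]; congr 1; omega, pow_mul, ← hu]
        exact pow_mem (subset_closure (by simp)) _
      have hu' : u ∈ R := hmax (isMulCommutative_closure_pair hcomm) hRK (subset_closure (by simp))
      rw [hu, hk, Nat.pow_dvd_pow_iff_le_right hp.out.one_lt] at hu'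
      omega
  · intro he
    refine ⟨(h.isMulCommutative_iff hp2).2 he.ge, fun K hK hRK => ?_⟩
    obtain ⟨α', β', γ', h'⟩ := C.exists_params K
    exact (Subgroup.eq_of_le_of_card_ge hRK
      (((h'.card_le_iff hp2).2 hK).trans (h.card_eq_iff.2 he).ge)).ge

theorem Params.isMetacyclic (h : C.Params R α β γ) : Cfsg.IsMetacyclic R := by
  have hn : (zpowers C.a).Normal := by
    refine ⟨fun b hb g => ?_⟩
    obtain ⟨k, rfl⟩ := (C.mem_zpowers_iff_exists b).1 hb
    obtain ⟨j, i, rfl⟩ := C.exists_rep g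
    rw [show C.a ^ j * C.x ^ i * C.a ^ k * (C.a ^ j * C.x ^ i)⁻¹
      = C.a ^ j * (C.x ^ i * C.a ^ k) * (C.x ^ i)⁻¹ * (C.a ^ j)⁻¹ by group, C.conj_pow_a]
    simp only [mul_assoc, mul_inv_cancel_left]
    exact mul_mem (npow_mem_zpowers _ _) (mul_mem (npow_mem_zpowers _ _) (inv_mem (npow_mem_zpowers _ _)))
  refine ⟨(zpowers C.a).subgroupOf R, hn.subgroupOf R, ?_, ?_⟩
  · exact isCyclic_of_injective (R.subtype.subgroupComap (zpowers C.a)) (fun a b hab =>
      Subtype.ext (R.subtype_injective (congrArg (fun z : zpowers C.a => (z : G)) hab :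
        R.subtype a.1 = R.subtype b.1)))
  · haveI := hn.subgroupOf R
    refine ⟨⟨QuotientGroup.mk' _ (⟨_, h.2.2.1⟩ : R), fun q => ?_⟩⟩
    obtain ⟨⟨g, hg⟩, rfl⟩ := QuotientGroup.mk'_surjective _ q
    obtain ⟨s, w, e⟩ := h.2.2.2.2.2 g hg
    refine ⟨(w : ℤ), ?_⟩
    simp only [zpow_natCast, ← map_pow]
    refine (QuotientGroup.mk'_eq_mk' _).2 ⟨⟨((C.a ^ γ * C.x ^ p ^ β) ^ w)⁻¹ * g, R.mul_mem (R.inv_mem (R.pow_mem h.2.2.1 _)) hg⟩, ?_, ?_⟩
    · rw [mem_subgroupOf]
      simp only [e]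
      rw [← mul_assoc]
      simpa using hn.conj_mem _ (pow_mem (npow_mem_zpowers C.a (p ^ α)) s) ((C.a ^ γ * C.x ^ p ^ β) ^ w)⁻¹
    · exact Subtype.ext (by simp)

theorem Params.card_mul_card_center (hG : IsPGroup p G) (hp2 : p ≠ 2) (h : C.Params R α β γ) :
    Nat.card R * Nat.card (center R) * p ^ (2 * (C.n - (α + β))) = p ^ (2 * ((C.m - α) + (C.l - β))) := by
  obtain ⟨D⟩ := exists_coord (hG.to_subgroup R) h.isMetacyclic
  have e : Nat.card (commutator R) = p ^ (C.n - (α + β)) := by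
    rw [← h.card_commutator hp2, ← Subgroup.map_subtype_commutator R,
      card_map_of_injective R.subtype_injective]
  rw [D.card_commutator] at e
  have hc := (center R).card_mul_index
  rw [D.index_center hp2, Nat.pow_right_injective hp.out.two_le e] at hc
  rw [mul_assoc, hc, h.card_eq, ← pow_add, ← two_mul]

theorem card_center_eq (hp2 : p ≠ 2) : Nat.card (center G) * p ^ (2 * C.n) = p ^ (C.m + C.l) := by
  rw [← C.index_center hp2, card_mul_index, C.card_group]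

theorem card_annihilator {k : ℕ} (hk : k ≤ C.n) :
    Nat.card {z : ZMod (p ^ C.n) // ((p ^ k : ℕ) : ZMod (p ^ C.n)) * z = 0} = p ^ k := by
  have e : ∀ z : ZMod (p ^ C.n), ((p ^ k : ℕ) : ZMod (p ^ C.n)) * z = 0 ↔
      ((p ^ (C.n - k) : ℕ) : ZMod (p ^ C.n)) ∣ z := by
    intro z
    rw [← ZMod.natCast_zmod_val z, C.cast_dvd_iff (Nat.sub_le _ _), ← Nat.cast_mul,
      ZMod.natCast_eq_zero_iff]
    exact pow_dvd_pow_mul_iff hp.out.pos hk
  rw [Nat.card_congr (Equiv.subtypeEquivRight e), C.card_multiples (Nat.sub_le _ _)]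
  congr 1; omega

theorem Params.card_mul_card_centralizer (hp2 : p ≠ 2) (h : C.Params R α β γ)
    (hZ : center G ≤ R) :
    Nat.card R * Nat.card (centralizer (R : Set G)) = Nat.card G * Nat.card (center G) := by
  classical
  obtain ⟨hα, hβ, hy, hk, hdiv, hgen⟩ := id h
  have hzn : ∀ j i : ℕ, p ^ C.n ∣ j → p ^ C.n ∣ i → C.a ^ j * C.x ^ i ∈ R := by
    intro j i hj hi
    refine hZ ((C.mem_center_iff' hp2 _).2 ?_)
    rw [C.phi_rep, (ZMod.natCast_eq_zero_iff j _).2 hj,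
      (ZMod.natCast_eq_zero_iff _ _).2 ((C.pow_dvd_gsum hp2 _ _).2 hi)]
    rfl
  have hαn : α ≤ C.n := by
    have := (hk (p ^ C.n)).1 (by simpa using hzn (p ^ C.n) 0 dvd_rfl (dvd_zero _))
    exact (Nat.pow_dvd_pow_iff_le_right hp.out.one_lt).1 this
  have hβn : β ≤ C.n := by
    have := hdiv 0 (p ^ C.n) (hzn 0 (p ^ C.n) (dvd_zero _) dvd_rfl)
    exact (Nat.pow_dvd_pow_iff_le_right hp.out.one_lt).1 this
  have fact : p ^ β ∣ γ * p ^ (C.n - α) := by
    obtain ⟨A, hA, hA'⟩ := exists_gsum_pow_eq hp2 (R := C.r ^ p ^ β) (cast_pow_eq_one C.r_cast _) (C.n - β)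
    have h1 := R.pow_mem hy (p ^ (C.n - β))
    rw [C.rep_pow, ← pow_add p, Nat.add_sub_cancel' hβn, hA] at h1
    have h2 : C.a ^ (γ * (p ^ (C.n - β) * A)) ∈ R := by
      have hx := hzn 0 (p ^ C.n) (dvd_zero _) dvd_rfl
      rw [pow_zero, one_mul] at hx
      simpa using R.mul_mem h1 (R.inv_mem hx)
    obtain ⟨k, hk'⟩ : p ^ α ∣ γ * p ^ (C.n - β) := by
      refine ((hp.out.coprime_iff_not_dvd.2 hA').pow_left α).dvd_of_dvd_mul_right ?_
      rw [mul_assoc]; exact (hk _).1 h2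
    refine ⟨k, Nat.eq_of_mul_eq_mul_left (pow_pos hp.out.pos α) ?_⟩
    calc p ^ α * (γ * p ^ (C.n - α)) = γ * p ^ C.n := by
          rw [mul_left_comm, ← pow_add, Nat.add_sub_cancel' hαn]
      _ = (γ * p ^ (C.n - β)) * p ^ β := by rw [mul_assoc, ← pow_add, Nat.sub_add_cancel hβn]
      _ = _ := by rw [hk']; ring
  set S := gsum C.r (p ^ β)
  obtain ⟨A, hA, hA'⟩ := exists_gsum_pow_eq hp2 C.r_cast β
  have hAu : IsUnit ((A : ℕ) : ZMod (p ^ C.n)) := by
    rw [ZMod.isUnit_iff_coprime]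
    exact ((hp.out.coprime_iff_not_dvd.2 hA').symm).pow_right _
  set K : Set (ZMod (p ^ C.n) × ZMod (p ^ C.n)) :=
    {w | ((p ^ α : ℕ) : ZMod (p ^ C.n)) * w.2 = 0 ∧
      (γ : ZMod (p ^ C.n)) * w.2 - w.1 * (S : ZMod (p ^ C.n)) = 0} with hK
  have hmem : ∀ g : G, g ∈ centralizer (R : Set G) ↔ C.phi g ∈ K := by
    intro g
    have e1 := C.commute_iff (C.a ^ p ^ α) g
    have e2 := C.commute_iff (C.a ^ γ * C.x ^ p ^ β) g
    rw [h.phi_u] at e1
    rw [C.phi_rep] at e2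
    simp only [det, mul_zero, sub_zero] at e1 e2
    rw [mem_centralizer_iff, hK, Set.mem_setOf_eq, ← e1, ← e2]
    constructor
    · exact fun hg => ⟨hg _ h.u_mem, hg _ hy⟩
    · rintro ⟨h1, h2⟩ b hb
      obtain ⟨s, w, rfl⟩ := hgen b hb
      exact (Commute.mul_left (Commute.pow_left h1 s) (Commute.pow_left h2 w)).eq
  have hKcard : Nat.card K = p ^ α * p ^ β := by
    have hsolve : ∀ z : {z : ZMod (p ^ C.n) // ((p ^ α : ℕ) : ZMod (p ^ C.n)) * z = 0},
        ∃ q, (γ : ZMod (p ^ C.n)) * z.1 - q * (S : ZMod (p ^ C.n)) = 0 := by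
      rintro ⟨z, hz⟩
      rw [← ZMod.natCast_zmod_val z, ← Nat.cast_mul, ZMod.natCast_eq_zero_iff,
        pow_dvd_pow_mul_iff hp.out.pos hαn] at hz
      obtain ⟨t, ht⟩ := hz
      obtain ⟨k, hk'⟩ := fact
      obtain ⟨e, he⟩ := hAu.exists_right_inv
      refine ⟨((k * t : ℕ) : ZMod (p ^ C.n)) * e, ?_⟩
      show (γ : ZMod (p ^ C.n)) * z - _ = 0
      rw [← ZMod.natCast_zmod_val z, ht, ← Nat.cast_mul, ← mul_assoc γ, hk',
        show (S : ZMod (p ^ C.n)) = ((p ^ β : ℕ) : ZMod (p ^ C.n)) * (A : ZMod (p ^ C.n)) by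
          rw [← Nat.cast_mul]; exact congrArg _ hA]
      push_cast
      linear_combination (-((p : ZMod (p ^ C.n)) ^ β * k * t)) * he
    choose q hq using hsolve
    rw [← C.card_annihilator hαn, ← C.card_annihilator hβn, ← Nat.card_prod]
    have hS : ∀ z : ZMod (p ^ C.n), z * (S : ZMod (p ^ C.n)) = 0 ↔
        ((p ^ β : ℕ) : ZMod (p ^ C.n)) * z = 0 := fun z => by
      rw [show S = p ^ β * A from hA, Nat.cast_mul, ← mul_assoc, hAu.mul_left_eq_zero, mul_comm]
    refine Nat.card_congr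
      { toFun := fun w => (⟨w.1.2, w.2.1⟩, ⟨w.1.1 - q ⟨w.1.2, w.2.1⟩, (hS _).1 ?_⟩)
        invFun := fun z => ⟨(q z.1 + z.2.1, z.1.1), z.1.2, ?_⟩
        left_inv := fun w => Subtype.ext (Prod.ext (add_sub_cancel _ _) rfl)
        right_inv := fun z => Prod.ext rfl (Subtype.ext (add_sub_cancel_left _ _)) }
    · linear_combination hq ⟨w.1.2, w.2.1⟩ - w.2.2
    · have := (hS z.2.1).2 z.2.2
      linear_combination hq z.1 - this
  have hc : Nat.card (centralizer (R : Set G)) = Nat.card (center G) * (p ^ α * p ^ β) := by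
    rw [← hKcard, ← C.card_fibre hp2 K]
    exact Nat.card_congr (Equiv.subtypeEquivRight hmem)
  rw [hc, h.card_eq, C.card_group, mul_left_comm, mul_comm (p ^ (C.m + C.l)), ← pow_add, ← pow_add]
  congr 2; omega

omit hp in
theorem centralizer_sup_center (R : Subgroup G) :
    centralizer ((R ⊔ center G : Subgroup G) : Set G) = centralizer (R : Set G) := by
  refine le_antisymm (centralizer_le (SetLike.coe_subset_coe.2 le_sup_left)) ?_
  rw [le_centralizer_iff]
  exact sup_le (le_centralizer_iff.1 le_rfl) (center_le_centralizer _)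

theorem card_mul_card_centralizer_le (C : Coord G p) (hp2 : p ≠ 2) (R : Subgroup G) :
    Nat.card R * Nat.card (centralizer (R : Set G)) ≤ Nat.card G * Nat.card (center G) ∧
    (Nat.card R * Nat.card (centralizer (R : Set G)) = Nat.card G * Nat.card (center G) ↔
      center G ≤ R) := by
  obtain ⟨α, β, γ, h⟩ := C.exists_params (R ⊔ center G)
  have e := h.card_mul_card_centralizer hp2 le_sup_right
  rw [centralizer_sup_center] at e
  rw [← e]
  refine ⟨Nat.mul_le_mul_right _ (card_le_of_le le_sup_left), ?_, ?_⟩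
  · intro hh
    have hh' := Nat.eq_of_mul_eq_mul_right Nat.card_pos hh
    rw [Subgroup.eq_of_le_of_card_ge (le_sup_left : R ≤ R ⊔ center G) hh'.ge]
    exact le_sup_right
  · intro hh; rw [sup_eq_left.2 hh]

end Coord

end Cfsg.Agent.Lib.Metacyclic
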